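import Cfsg.Agent.SeenOnce.Column
import Cfsg.Agent.SeenOnce.ClassTwo
import Cfsg.Agent.SeenOnce.Singer
import Cfsg.Agent.S4456
import Cfsg.Agent.S0205
import Cfsg.Agent.S0033

/-!
# Solvability of a group with a non-central element seen by one non-linear character
-/

set_option autoImplicit false
set_option linter.style.haveILetI false

namespace Cfsg.Agent.SeenOnce

open Subgroup
open scoped commutatorElement

universe u

variable {G : Type u} [Group G]

theorem solvable_of_normal_pow_index [Finite G] {p : ℕ} [Fact p.Prime] (N : Subgroup G) [N.Normal]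
    (hN : Group.IsSolvable N) {k : ℕ} (hk : N.index = p ^ k) : Group.IsSolvable G := by
  haveI := hN
  haveI : Group.IsNilpotent (G ⧸ N) :=
    (IsPGroup.of_card (n := k) (by rw [← Subgroup.index_eq_card, hk])).isNilpotent
  exact solvable_of_ker_le_range N.subtype (QuotientGroup.mk' N) (by simp)

/-- The elements of a class covering the non-identity cosets form an elementary abelian `p`-group. -/
theorem exists_prime_exponent [Finite G] (K : Subgroup G) [K.Normal] (g : G) (hgK : g ∉ K)
    (hgG : g ∈ commutator G)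
    (hG' : ∀ x, x ∈ commutator G ↔ x ∈ K ∨ IsConj g x) :
    ∃ p : ℕ, p.Prime ∧ (∀ x ∈ commutator G, x ^ p ∈ K) ∧
      ∀ x ∈ commutator G, x ∉ K → ∃ e, orderOf x = p ^ e := by
  classical
  have hex : ∃ n, 0 < n ∧ g ^ n ∈ K := ⟨orderOf g, orderOf_pos g, by simp [pow_orderOf_eq_one]⟩
  set m := Nat.find hex with hm
  obtain ⟨hmpos, hgm⟩ := Nat.find_spec hex
  rw [← hm] at hmpos hgm
  have hmin : ∀ r, 0 < r → r < m → g ^ r ∉ K := fun r hr hrm h => Nat.find_min hex hrm ⟨hr, h⟩
  have hm1 : m ≠ 1 := fun h => hgK (by rwa [h, pow_one] at hgm)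
  have hconj : ∀ x ∈ commutator G, x ∉ K → ∀ n, x ^ n ∈ K ↔ g ^ n ∈ K := by
    intro x hx hxK n
    obtain ⟨c, rfl⟩ := isConj_iff.1 (((hG' x).1 hx).resolve_left hxK)
    rw [conj_pow]
    refine ⟨fun h => ?_, fun h => (inferInstance : K.Normal).conj_mem _ h c⟩
    have := (inferInstance : K.Normal).conj_mem _ h c⁻¹
    simpa [mul_assoc] using this
  have hp : m.Prime := by
    by_contra hnp
    obtain ⟨r, hrm, hr2, hrlt⟩ := Nat.exists_dvd_of_not_prime2 (by omega) hnp
    obtain ⟨s, hs⟩ := hrm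
    have hs1 : 0 < s := by
      rcases Nat.eq_zero_or_pos s with h | h
      · rw [h, mul_zero] at hs; omega
      · exact h
    have hsm : s < m := by rw [hs]; exact lt_mul_of_one_lt_left hs1 (by omega)
    refine hmin s hs1 hsm ?_
    rw [← hconj (g ^ r) (pow_mem hgG r) (hmin r (by omega) hrlt) s, ← pow_mul, ← hs]
    exact hgm
  refine ⟨m, hp, fun x hx => ?_, fun x hx hxK => ?_⟩
  · by_cases hxK : x ∈ K
    · exact pow_mem hxK m
    · exact (hconj x hx hxK m).2 hgm
  · obtain ⟨e, t, hmt, hord⟩ := Nat.exists_eq_pow_mul_and_not_dvd (orderOf_pos g).ne' m hp.ne_one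
    have hcop : (m ^ e).Coprime t := ((hp.coprime_iff_not_dvd).2 hmt).pow_left e
    obtain ⟨k, hk1, hk2⟩ := Nat.chineseRemainder hcop 1 0
    have hkm : ¬ m ∣ k ∧ m ^ e ≠ 1 := by
      have he : e ≠ 0 := by
        intro he
        rw [he, pow_zero, one_mul] at hord
        apply hmt
        rw [← hord]
        by_contra hnd
        obtain ⟨u, hu⟩ := Nat.exists_mul_mod_eq_one_of_coprime
          (((hp.coprime_iff_not_dvd).2 hnd).symm) hp.one_lt
        apply hgK
        have h1 : g ^ (orderOf g * u) ∈ K := by rw [pow_mul, pow_orderOf_eq_one, one_pow]; exact one_mem _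
        have h2 := Nat.div_add_mod (orderOf g * u) m
        rw [hu.2] at h2
        rw [← h2, pow_add, pow_one, pow_mul] at h1
        exact (mul_mem_cancel_left (pow_mem hgm _)).1 h1
      refine ⟨fun hd => ?_, (Nat.one_lt_pow he hp.one_lt).ne'⟩
      have h1 : k ≡ 1 [MOD m] := hk1.of_dvd (dvd_pow_self m he)
      have h2 : k % m = 0 := Nat.eq_zero_of_dvd_of_lt ((Nat.dvd_mod_iff dvd_rfl).2 hd) (Nat.mod_lt _ hp.pos)
      rw [Nat.ModEq, Nat.one_mod_eq_one.2 hp.ne_one, h2] at h1
      exact absurd h1 zero_ne_one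
    have hgkK : g ^ k ∉ K := by
      intro h
      obtain ⟨u, hu⟩ := Nat.exists_mul_mod_eq_one_of_coprime
        (((hp.coprime_iff_not_dvd).2 hkm.1).symm) hp.one_lt
      apply hgK
      have h1 : g ^ (k * u) ∈ K := by rw [pow_mul]; exact pow_mem h u
      have h2 := Nat.div_add_mod (k * u) m
      rw [hu.2] at h2
      rw [← h2, pow_add, pow_one, pow_mul] at h1
      exact (mul_mem_cancel_left (pow_mem hgm _)).1 h1
    have h1 : (g ^ k) ^ m ^ e = 1 := by
      rw [← pow_mul, ← orderOf_dvd_iff_pow_eq_one, hord, mul_comm k]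
      exact Nat.mul_dvd_mul_left _ (Nat.modEq_zero_iff_dvd.1 hk2)
    obtain ⟨c, hc⟩ := isConj_iff.1 (((hG' (g ^ k)).1 (pow_mem hgG k)).resolve_left hgkK)
    obtain ⟨c', hc'⟩ := isConj_iff.1 (((hG' x).1 hx).resolve_left hxK)
    have hor : ∀ c : G, orderOf (c * g * c⁻¹) = orderOf g := fun c =>
      orderOf_injective (MulAut.conj c).toMonoidHom (MulAut.conj c).injective g
    have h2 : orderOf g ∣ m ^ e := by
      rw [← hor c, hc]
      exact orderOf_dvd_of_pow_eq_one h1
    obtain ⟨i, -, hi⟩ := (Nat.dvd_prime_pow hp).1 h2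
    exact ⟨i, by rw [← hc', hor, hi]⟩

omit [Group G] in
/-- The structure of the quotient by the kernel. -/
theorem quotient_centralizer {Q : Type u} [Group Q] [Finite Q] {p q : ℕ} [Fact p.Prime]
    (N : Subgroup Q) [N.Normal] (hN : commutator Q ≤ N) (hq : Nat.card N = q) (hq2 : 2 < q)
    (hexp : ∀ y ∈ N, y ^ p = 1) (g : Q) (hgN : g ∈ N) (hg1 : g ≠ 1)
    (htrans : ∀ y ∈ N, y ≠ 1 → IsConj g y)
    (hZ : ∀ z : Q, (∀ y, Commute z y) → z ∈ N) :
    centralizer ({g} : Set Q) = N ∧ N.index + 1 = q ∧ ∀ a b : N, a * b = b * a := by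
  classical
  have hNne : ∀ {y : Q}, y ∈ N → y ≠ 1 → ∃ c, c * g * c⁻¹ = y := fun hy hy1 =>
    isConj_iff.1 (htrans _ hy hy1)
  -- N is a p-group, hence abelian
  have hNp : IsPGroup p N := fun y => ⟨1, Subtype.ext (by simpa using hexp y y.2)⟩
  haveI : Nontrivial N := ⟨⟨⟨g, hgN⟩, 1, fun h => hg1 (congrArg Subtype.val h)⟩⟩
  haveI := hNp.center_nontrivial
  obtain ⟨z₀, hz₀⟩ := Subgroup.ne_bot_iff_exists_ne_one.1
    ((Subgroup.nontrivial_iff_ne_bot _).1 hNp.center_nontrivial)
  set z : N := (z₀ : N)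
  have hz : z ∈ center N := z₀.2
  have hz1 : z ≠ 1 := fun h => hz₀ (Subtype.ext h)
  have hcomm : ∀ a b : N, a * b = b * a := by
    intro a b
    rcases eq_or_ne (a : Q) 1 with h | h
    · rw [Subtype.ext (a2 := (1 : N)) h, one_mul, mul_one]
    obtain ⟨c, hc⟩ := hNne a.2 h
    obtain ⟨c', hc'⟩ := hNne z.2 fun h' => hz1 (Subtype.ext h')
    set d := c * c'⁻¹
    have had : (a : Q) = d * z * d⁻¹ := by rw [← hc, ← hc']; simp [d]; group
    have hb : d⁻¹ * b * d ∈ N := by
      simpa using (inferInstance : N.Normal).conj_mem _ b.2 d⁻¹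
    have h1 := congrArg Subtype.val (Subgroup.mem_center_iff.1 hz ⟨_, hb⟩)
    simp only [Subgroup.coe_mul] at h1
    apply Subtype.ext
    rw [Subgroup.coe_mul, Subgroup.coe_mul, had]
    calc d * z * d⁻¹ * b = d * (z * (d⁻¹ * b * d)) * d⁻¹ := by group
      _ = b * (d * z * d⁻¹) := by rw [← h1]; group
  suffices h : centralizer ({g} : Set Q) = N ∧ (centralizer ({g} : Set Q)).index + 1 = q from
    ⟨h.1, h.1 ▸ h.2, hcomm⟩
  set M := centralizer ({g} : Set Q) with hM
  have hNM : N ≤ M := fun y hy => mem_centralizer_singleton_iff.2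
    (congrArg Subtype.val (hcomm ⟨y, hy⟩ ⟨g, hgN⟩))
  haveI : M.Normal := Subgroup.Normal.of_commutator_le Q (hN.trans hNM)
  have hMN : ∀ x ∈ M, ∀ y ∈ N, Commute x y := by
    intro x hx y hy
    rcases eq_or_ne y 1 with rfl | hy1
    · exact Commute.one_right x
    obtain ⟨c, rfl⟩ := hNne hy hy1
    have h1 : c⁻¹ * x * c ∈ M := by simpa using (inferInstance : M.Normal).conj_mem _ hx c⁻¹
    rw [hM, mem_centralizer_singleton_iff] at h1
    calc x * (c * g * c⁻¹) = c * (c⁻¹ * x * c * g) * c⁻¹ := by group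
      _ = c * g * c⁻¹ * x := by rw [h1]; group
  have hcard : M.index + 1 = q := by
    letI := Fintype.ofFinite Q
    have e0 := Char.card_isConj_eq_index g
    rw [← hM] at e0
    rw [← hq, Nat.card_eq_fintype_card, Fintype.card_subtype, ← e0]
    have hset : (Finset.univ.filter fun x : Q => IsConj g x) =
        (Finset.univ.filter fun x : Q => x ∈ N).erase 1 := by
      ext x
      simp only [Finset.mem_filter, Finset.mem_univ, true_and, Finset.mem_erase]
      constructor
      · intro h
        obtain ⟨c, rfl⟩ := isConj_iff.1 h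
        exact ⟨fun h1 => hg1 (conj_eq_one_iff.1 h1), (inferInstance : N.Normal).conj_mem g hgN c⟩
      · exact fun h => htrans x h.2 h.1
    have e1 := congrArg Finset.card hset
    rw [Finset.card_erase_of_mem (by simp)] at e1
    have e2 : M.index = (Finset.univ.filter fun x : Q => x ∈ N).card - 1 := by
      rw [← e0, ← e1]
      congr 2
    rw [e0, e2]
    have : 0 < (Finset.univ.filter fun x : Q => x ∈ N).card := Finset.card_pos.2 ⟨1, by simp⟩
    omega
  have hcenter : ∀ z : Q, (∀ y, Commute z y) → z = 1 := by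
    intro z hz
    by_contra hz1
    obtain ⟨c, hc⟩ := hNne (hZ z hz) hz1
    have hgc : ∀ y, Commute g y := by
      intro y
      have h1 : g = z := by
        calc g = c⁻¹ * (c * g * c⁻¹) * c := by group
          _ = c⁻¹ * (z * c) := by rw [hc]; group
          _ = z := by rw [(hz c).eq]; group
      rw [h1]; exact hz y
    have h1 : M = ⊤ := by
      rw [eq_top_iff]
      exact fun y _ => mem_centralizer_singleton_iff.2 (hgc y).symm.eq
    rw [h1, index_top] at hcard
    omega
  have hcM : ∀ x y : Q, ⁅x, y⁆ ∈ N := fun x y =>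
    hN (commutator_mem_commutator (mem_top x) (mem_top y))
  -- M is a p-group
  have hp'M : ∀ x ∈ M, (orderOf x).Coprime p → x = 1 := by
    have key : ∀ x ∈ M, (orderOf x).Coprime p → ∀ y, (Commute x (y * x * y⁻¹)) → Commute x y := by
      intro x hx hxp y hxy
      set c := y * x * y⁻¹ * x⁻¹ with hc
      have h1 : c ^ p = 1 := hexp c (hcM y x)
      have h2 : c ^ orderOf x = 1 := by
        rw [hc, (hxy.symm.inv_right).mul_pow, inv_pow, conj_pow, pow_orderOf_eq_one]
        group
      have h3 : c = 1 := by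
        have := pow_gcd_eq_one.2 ⟨h2, h1⟩
        rwa [hxp, pow_one] at this
      rw [hc, mul_inv_eq_one, mul_inv_eq_iff_eq_mul] at h3
      exact h3.symm
    intro x hx hxp
    have hcM' : ∀ y ∈ M, Commute x y := by
      intro y hy
      refine key x hx hxp y ?_
      rw [show y * x * y⁻¹ = ⁅y, x⁆ * x by rw [commutatorElement_def]; group]
      exact (hMN x hx _ (hcM y x)).mul_right (Commute.refl x)
    exact hcenter x fun y => key x hx hxp y
      (hcM' _ ((inferInstance : M.Normal).conj_mem x hx y))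
  -- a fixed-point-free element
  obtain ⟨r, hr, hrdvd⟩ := Nat.exists_prime_and_dvd (n := M.index) (by omega)
  have hrp : r ≠ p := by
    rintro rfl
    obtain ⟨j, hj⟩ := hNp.exists_card_eq
    have hj0 : j ≠ 0 := by
      intro h
      rw [h, pow_zero] at hj
      omega
    have : r ∣ M.index + 1 := by rw [hcard, ← hq, hj]; exact dvd_pow_self r hj0
    exact hr.not_dvd_one ((Nat.dvd_add_right hrdvd).1 this)
  haveI : Fact r.Prime := ⟨hr⟩
  obtain ⟨h, hh⟩ := exists_prime_orderOf_dvd_card' (G := Q) r (hrdvd.trans M.index_dvd_card)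
  have hhM : h ∉ M := fun hm => by
    have := hp'M h hm (by rw [hh]; exact (Nat.coprime_primes hr Fact.out).2 hrp)
    rw [this, orderOf_one] at hh
    exact hr.ne_one hh.symm
  have hfix : ∀ y ∈ N, Commute h y → y = 1 := by
    intro y hy hhy
    by_contra hy1
    obtain ⟨c, rfl⟩ := hNne hy hy1
    apply hhM
    have h1 : c⁻¹ * h * c ∈ M := by
      rw [hM, mem_centralizer_singleton_iff]
      calc c⁻¹ * h * c * g = c⁻¹ * (h * (c * g * c⁻¹)) * c := by group
        _ = g * (c⁻¹ * h * c) := by rw [hhy.eq]; group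
    have := (inferInstance : M.Normal).conj_mem _ h1 c
    simpa [mul_assoc] using this
  refine ⟨le_antisymm (fun m hm => ?_) hNM, hcard⟩
  let φ : N → N := fun y => ⟨⁅h, (y : Q)⁆, hcM _ _⟩
  have hφ : Function.Injective φ := by
    intro y y' hyy
    have h1 : h * y * h⁻¹ * (y : Q)⁻¹ = h * y' * h⁻¹ * (y' : Q)⁻¹ := congrArg Subtype.val hyy
    have h2 : Commute h ((y' : Q)⁻¹ * y) := by
      have e : h * ((y' : Q)⁻¹ * y) * h⁻¹ = (y' : Q)⁻¹ * y := by
        have h3 : h * y * h⁻¹ = h * y' * h⁻¹ * ((y' : Q)⁻¹ * y) := by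
          rw [← mul_assoc (h * y' * h⁻¹), ← h1]; group
        calc h * ((y' : Q)⁻¹ * y) * h⁻¹ = (h * y' * h⁻¹)⁻¹ * (h * y * h⁻¹) := by group
          _ = (y' : Q)⁻¹ * y := by rw [h3]; group
      exact mul_inv_eq_iff_eq_mul.1 e
    exact Subtype.ext (inv_mul_eq_one.1 (hfix _ (mul_mem (inv_mem y'.2) y.2) h2)).symm
  obtain ⟨y, hy⟩ := Finite.injective_iff_surjective.1 hφ ⟨⁅h, m⁆, hcM _ _⟩
  have hy' : h * y * h⁻¹ * (y : Q)⁻¹ = h * m * h⁻¹ * m⁻¹ := congrArg Subtype.val hy
  set x := (y : Q)⁻¹ * m with hx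
  have hxM : x ∈ M := mul_mem (inv_mem (hNM y.2)) hm
  have hhx : h * x * h⁻¹ = x := by
    have h3 : h * y * h⁻¹ = h * m * h⁻¹ * m⁻¹ * y := by rw [← hy']; group
    calc h * x * h⁻¹ = (h * y * h⁻¹)⁻¹ * (h * m * h⁻¹) := by rw [hx]; group
      _ = x := by rw [h3, hx]; group
  have hxc : ∀ w, Commute x w := by
    intro w
    have hu : ⁅x, w⁆ = 1 := by
      refine hfix _ (hcM x w) ?_
      refine mul_inv_eq_iff_eq_mul.1 ?_
      have e1 : h * ⁅x, w⁆ * h⁻¹ = ⁅h * x * h⁻¹, h * w * h⁻¹⁆ := map_commutatorElement (MulAut.conj h) x w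
      rw [e1, hhx, show h * w * h⁻¹ = ⁅h, w⁆ * w by rw [commutatorElement_def]; group]
      have c1 : Commute x ⁅h, w⁆ := hMN x hxM _ (hcM h w)
      have c2 : Commute ⁅h, w⁆ ⁅x, w⁆ := congrArg Subtype.val (hcomm ⟨_, hcM h w⟩ ⟨_, hcM x w⟩)
      calc ⁅x, ⁅h, w⁆ * w⁆ = (x * ⁅h, w⁆) * w * x⁻¹ * w⁻¹ * ⁅h, w⁆⁻¹ := by
            rw [commutatorElement_def x]; group
        _ = ⁅h, w⁆ * ⁅x, w⁆ * ⁅h, w⁆⁻¹ := by rw [c1.eq, commutatorElement_def x]; group
        _ = ⁅x, w⁆ := by rw [c2.eq, mul_inv_cancel_right]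
    exact commutatorElement_eq_one_iff_commute.1 hu
  have hx1 := hcenter x hxc
  rw [hx, inv_mul_eq_one] at hx1
  rw [← hx1]
  exact y.2

set_option maxHeartbeats 1000000 in
/-- A group with a non-central element seen by one non-linear character is solvable. -/
theorem isSolvable_of_seen_once [Finite G] (g : G) (hgc : g ∉ center G) (χ : Cfsg.IrrCharacter G)
    (hχ1 : Cfsg.charDegree (χ : G → ℂ) ≠ 1) (hχg : (χ : G → ℂ) g ≠ 0)
    (hother : ∀ ψ : Cfsg.IrrCharacter G,
      Cfsg.charDegree (ψ : G → ℂ) ≠ 1 → ψ ≠ χ → (ψ : G → ℂ) g = 0) :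
    Group.IsSolvable G := by
  classical
  letI := Fintype.ofFinite G
  have hg1 : g ≠ 1 := fun h => hgc (h ▸ one_mem _)
  obtain ⟨K, d, hKn, hKle, hgG, hgK, hK, hd, -, hout, hG', hCd⟩ :=
    column_facts g hg1 χ hχ1 hχg hother
  obtain ⟨p, hp, hexpK, hpel⟩ := exists_prime_exponent K g hgK hgG hG'
  haveI : Fact p.Prime := ⟨hp⟩
  obtain ⟨e, he⟩ := hpel g hgG hgK
  set π := QuotientGroup.mk' K with hπ
  set Nb := (commutator G).map π with hNb
  have hNbc : commutator (G ⧸ K) = Nb := by
    rw [hNb, _root_.commutator_def, _root_.commutator_def, map_commutator,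
      map_top_of_surjective _ (QuotientGroup.mk'_surjective K)]
  haveI : Nb.Normal := Subgroup.Normal.map inferInstance _ (QuotientGroup.mk'_surjective K)
  set q := Nat.card Nb with hq
  set a := (commutator G).index with ha
  have hNidx : Nb.index = a :=
    index_map_eq _ (QuotientGroup.mk'_surjective K) (by rw [hπ, QuotientGroup.ker_mk']; exact hKle)
  have hQcard : Nat.card (G ⧸ K) = a * q := by rw [← Nb.card_mul_index, hNidx, mul_comm]
  have hGcard : Nat.card G = a * q * Nat.card K := by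
    rw [card_eq_card_quotient_mul_card_subgroup K, hQcard]
  have hG'card : Nat.card (commutator G) = q * Nat.card K := by
    refine Nat.eq_of_mul_eq_mul_right (Nat.pos_of_ne_zero (index_ne_zero_of_finite (H := commutator G))) ?_
    rw [card_mul_index, hGcard, ← ha]
    ring
  have hapos : 0 < a := Nat.pos_of_ne_zero index_ne_zero_of_finite
  have hKpos : 0 < Nat.card K := Nat.card_pos
  set C := Nat.card (centralizer ({g} : Set G)) with hC
  have hclass : C * (q - 1) = a * q := by
    have h1 := Char.card_isConj_mul_card_centralizer g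
    have hset : (Finset.univ.filter fun x : G => IsConj g x) =
        (Finset.univ.filter fun x : G => x ∈ commutator G) \ (Finset.univ.filter fun x : G => x ∈ K) := by
      ext x
      simp only [Finset.mem_filter, Finset.mem_univ, true_and, Finset.mem_sdiff]
      constructor
      · intro h
        refine ⟨(hG' x).2 (Or.inr h), fun hx => hgK ?_⟩
        obtain ⟨c, rfl⟩ := isConj_iff.1 h
        have h2 : c⁻¹ * (c * g * c⁻¹) * c⁻¹⁻¹ ∈ K := hKn.conj_mem _ hx c⁻¹
        simpa [mul_assoc] using h2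
      · exact fun h => ((hG' x).1 h.1).resolve_left h.2
    have h3 : (Finset.univ.filter fun x : G => IsConj g x).card = (q - 1) * Nat.card K := by
      rw [hset, Finset.card_sdiff_of_subset (by intro x; simpa using fun hx => hKle hx),
        ← Fintype.card_subtype, ← Fintype.card_subtype, ← Nat.card_eq_fintype_card,
        ← Nat.card_eq_fintype_card, Nat.sub_mul, one_mul, ← hG'card]
    have h4 : (q - 1) * Nat.card K * C = a * q * Nat.card K := by
      rw [← h3, ← hGcard]
      convert h1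
    refine Nat.eq_of_mul_eq_mul_right hKpos ?_
    rw [← h4]; ring
  have hgb : π g ∈ Nb := mem_map_of_mem π hgG
  have hgb1 : π g ≠ 1 := fun h => hgK ((QuotientGroup.eq_one_iff g).1 h)
  have hq1 : 2 ≤ q := by
    haveI : Nontrivial Nb := ⟨⟨⟨_, hgb⟩, 1, fun h => hgb1 (congrArg Subtype.val h)⟩⟩
    exact Finite.one_lt_card
  have hd2 : d ^ 2 = (q - 1) * a := by
    obtain ⟨r, hr⟩ : ∃ r, q = r + 1 := ⟨q - 1, by omega⟩
    rw [hr, Nat.add_sub_cancel] at hclass ⊢
    refine Nat.eq_of_mul_eq_mul_left hapos ?_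
    have h1 : C * d ^ 2 * r = (a * d ^ 2 + a ^ 2) * r := congrArg (· * r) hCd
    have h2 : C * d ^ 2 * r = a * (r + 1) * d ^ 2 := by rw [← hclass]; ring
    nlinarith
  have htrans : ∀ y ∈ Nb, y ≠ 1 → IsConj (π g) y := by
    rintro _ ⟨x, hx, rfl⟩ hy
    exact π.map_isConj (((hG' x).1 hx).resolve_left fun h => hy ((QuotientGroup.eq_one_iff x).2 h))
  have hexp : ∀ y ∈ Nb, y ^ p = 1 := by
    rintro _ ⟨x, hx, rfl⟩
    rw [← map_pow]
    exact (QuotientGroup.eq_one_iff _).2 (hexpK x hx)
  have hpq : p ∣ q := by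
    have h1 : orderOf (π g) = p := orderOf_eq_prime (hexp _ hgb) hgb1
    rw [← h1]
    exact Subgroup.orderOf_dvd_natCard _ hgb
  rcases Nat.lt_or_eq_of_le hq1 with hq2 | hq2
  swap
  · -- the case of index two
    have hp2 : p = 2 := (Nat.prime_dvd_prime_iff_eq hp Nat.prime_two).1 (hq2 ▸ hpq)
    subst hp2
    have heven : 2 ∣ a := by
      by_contra hodd
      have hcen : ∀ c ∈ Nb, ∀ y, Commute c y := by
        intro c hc y
        have h2 := hq2.symm
        rw [hq, Nat.card_eq_two_iff' (1 : Nb)] at h2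
        obtain ⟨w, -, hw⟩ := h2
        rcases eq_or_ne c 1 with rfl | hc1
        · exact Commute.one_left y
        have hy : y * c * y⁻¹ ∈ Nb := (inferInstance : Nb.Normal).conj_mem c hc y
        have e1 := hw ⟨c, hc⟩ fun h => hc1 (congrArg Subtype.val h)
        have e2 := hw ⟨_, hy⟩ fun h => hc1 (conj_eq_one_iff.1 (congrArg Subtype.val h))
        exact (mul_inv_eq_iff_eq_mul.1 (congrArg Subtype.val (e2.trans e1.symm))).symm
      have hbot : commutator (G ⧸ K) ≤ ⊥ := by
        rw [_root_.commutator_def, commutator_le]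
        intro x _ y _
        rw [mem_bot]
        set c := ⁅x, y⁆ with hc
        have hcm : c ∈ Nb := hNbc ▸ commutator_mem_commutator (mem_top x) (mem_top y)
        have hk : ∀ k : ℕ, x ^ k * y = c ^ k * (y * x ^ k) := by
          intro k
          induction k with
          | zero => simp
          | succ k ih =>
            have hxy : x * y = c * (y * x) := by rw [hc, commutatorElement_def]; group
            have h1 : x * c ^ k = c ^ k * x := ((hcen c hcm x).pow_left k).eq.symm
            calc x ^ (k + 1) * y = x * (x ^ k * y) := by rw [pow_succ', mul_assoc]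
              _ = c ^ k * (x * y) * x ^ k := by rw [ih, ← mul_assoc, h1]; group
              _ = _ := by rw [hxy, pow_succ c k, pow_succ' x k]; group
        have hxa : x ^ a ∈ Nb := hNidx ▸ Nb.pow_index_mem x
        have h1 : c ^ a = 1 := by
          have := hk a
          rw [(hcen _ hxa y).eq] at this
          exact mul_eq_right.1 this.symm
        have h2 := pow_gcd_eq_one.2 ⟨h1, hexp c hcm⟩
        rwa [((Nat.prime_two.coprime_iff_not_dvd).2 hodd).symm, pow_one] at h2
      rw [hNbc] at hbot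
      exact hgb1 (mem_bot.1 (hbot hgb))
    have hdeven : 2 ∣ d := by
      refine Nat.prime_two.dvd_of_dvd_pow (n := 2) ?_
      rw [hd2]
      exact dvd_mul_of_dvd_right heven _
    obtain ⟨N, hNn, hNc, k, hk⟩ := S4456.result (G := G) 2 Nat.prime_two fun ψ hψ => by
      by_cases h : ψ = χ
      · rw [h, charDegree_eq hd]; exact hdeven
      · obtain ⟨f, hf⟩ := Char.isCharacter_one_nat (Char.isCharacter_of_irr ψ.2)
        rw [charDegree_eq hf]
        exact dvd_degree_of_vanish (Char.isCharacter_of_irr ψ.2) he (hother ψ hψ h) hf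
    haveI := hNn
    exact solvable_of_normal_pow_index N
      (S0205.result (Nat.coprime_two_right.1 hNc)) hk
  -- the Frobenius case
  have hZ : ∀ z : G ⧸ K, (∀ y, Commute z y) → z ∈ Nb := by
    intro z hz
    obtain ⟨ψ, hψ, hψx⟩ := Char.irr_exists_descend χ.2 K fun n hn => (hK n).1 hn
    obtain ⟨x, rfl⟩ := QuotientGroup.mk'_surjective K z
    obtain ⟨ω, hω, -, hmul⟩ :=
      Char.irr_mul_center hψ (mem_center_iff.2 fun y => (hz y).eq.symm)
    have hne : (χ : G → ℂ) (x * g) ≠ 0 := by
      rw [hψx, QuotientGroup.mk_mul]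
      rw [show ψ ((x : G ⧸ K) * (g : G ⧸ K)) = ω * ψ (g : G ⧸ K) from hmul _, ← hψx]
      refine mul_ne_zero (fun h0 => ?_) hχg
      rw [h0, zero_pow (orderOf_pos _).ne'] at hω
      exact zero_ne_one hω
    refine mem_map_of_mem π ((mul_mem_cancel_right hgG).1 ?_)
    by_contra hc
    exact hne (hout _ hc)
  obtain ⟨-, haq, hNcomm⟩ :=
    quotient_centralizer Nb hNbc.le hq.symm hq2 hexp (π g) hgb hgb1 htrans hZ
  rw [hNidx] at haq
  have hCq : C = q := by
    refine Nat.eq_of_mul_eq_mul_right hapos ?_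
    rw [show q - 1 = a by omega] at hclass
    rw [hclass, mul_comm]
  have hCx : ∀ x ∈ commutator G, x ∉ K → Nat.card (centralizer ({x} : Set G)) = q := by
    intro x hx hxK
    rw [← hCq, hC]
    have h1 : (Finset.univ.filter fun y : G => IsConj x y).card *
        Nat.card (centralizer ({x} : Set G)) = Nat.card G := by
      convert Char.card_isConj_mul_card_centralizer x
    have h2 : (Finset.univ.filter fun y : G => IsConj g y).card *
        Nat.card (centralizer ({g} : Set G)) = Nat.card G := by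
      convert Char.card_isConj_mul_card_centralizer g
    have hconj := ((hG' x).1 hx).resolve_left hxK
    have h3 : (Finset.univ.filter fun y : G => IsConj x y) =
        (Finset.univ.filter fun y : G => IsConj g y) :=
      Finset.filter_congr fun y _ => ⟨fun h => hconj.trans h, fun h => hconj.symm.trans h⟩
    rw [h3, ← h2] at h1
    exact Nat.eq_of_mul_eq_mul_left
      (Finset.card_pos.2 ⟨g, Finset.mem_filter.2 ⟨Finset.mem_univ g, IsConj.refl g⟩⟩) h1
  set H := commutator G with hH
  set K1 := K.subgroupOf H with hK1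
  have hCH : ∀ x : H, (x : G) ∉ K → Nat.card (centralizer ({x} : Set H)) ≤ q := by
    intro x hx
    rw [← hCx x x.2 hx]
    refine Nat.card_le_card_of_injective
      (fun y : centralizer ({x} : Set H) => (⟨((y : H) : G), mem_centralizer_singleton_iff.2
        (congrArg Subtype.val (mem_centralizer_singleton_iff.1 y.2))⟩ : centralizer ({(x : G)} : Set G)))
      fun y z h => ?_
    exact Subtype.ext (Subtype.ext (congrArg (fun w : centralizer ({(x : G)} : Set G) => (w : G)) h))
  have hder : commutator H ≤ K1 := by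
    rw [_root_.commutator_def, commutator_le]
    intro x _ y _
    rw [hK1, mem_subgroupOf]
    refine (QuotientGroup.eq_one_iff _).1 ?_
    show π ⁅(x : G), (y : G)⁆ = 1
    rw [map_commutatorElement, commutatorElement_eq_one_iff_commute]
    exact congrArg Subtype.val
      (hNcomm ⟨π x, mem_map_of_mem π x.2⟩ ⟨π y, mem_map_of_mem π y.2⟩)
  have hK1idx : K1.index = q := by
    refine Nat.eq_of_mul_eq_mul_left hKpos ?_
    rw [← Nat.card_congr (subgroupOfEquivOfLe hKle).toEquiv, card_mul_index, hG'card,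
      Nat.card_congr (subgroupOfEquivOfLe hKle).toEquiv, mul_comm]
  obtain ⟨hder', hvan⟩ := derived_and_vanish K1 hder (⟨g, hgG⟩ : H) (by
    rw [hK1idx]; exact hCH _ hgK)
  obtain ⟨N, hNn, hNcop, k, hk⟩ := S4456.result (G := H) p hp fun η hη => by
    obtain ⟨f, hf⟩ := Char.isCharacter_one_nat (Char.isCharacter_of_irr η.2)
    rw [charDegree_eq hf]
    refine dvd_degree_of_vanish (Char.isCharacter_of_irr η.2) (k := e) ?_ (hvan η fun h1 => hη ?_) hf
    · rw [← orderOf_coe]; exact he
    · exact (charDegree_eq_one_iff (Char.isCharacter_of_irr η.2)).2 h1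
  haveI := hNn
  suffices hNs : Group.IsSolvable N by
    haveI := solvable_of_normal_pow_index N hNs hk
    exact solvable_of_ker_le_range H.subtype (Abelianization.of (G := G))
      (by rw [Subgroup.range_subtype, Abelianization.ker_of])
  rcases eq_or_ne p 2 with rfl | hpodd
  · exact S0205.result (Nat.coprime_two_right.1 hNcop)
  -- odd characteristic
  have hNord : ∀ y ∈ N, ∀ i, orderOf y ∣ p ^ i → y = 1 := by
    intro y hy i hyi
    refine orderOf_eq_one_iff.1 (Nat.eq_one_of_dvd_coprimes (hNcop.pow_right i) ?_ hyi)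
    rw [← orderOf_mk y hy]
    exact orderOf_dvd_natCard _
  have hNK : ∀ y ∈ N, (y : G) ∈ K := by
    intro y hy
    by_contra hc
    obtain ⟨i, hi⟩ := hpel y y.2 hc
    rw [orderOf_coe] at hi
    rw [hNord y hy i (by rw [hi]), OneMemClass.coe_one] at hc
    exact hc (one_mem K)
  obtain ⟨P⟩ : Nonempty (Sylow p H) := inferInstance
  have hPN : (P : Subgroup H) ⊔ N = ⊤ := by
    rw [← index_eq_one]
    refine Nat.eq_one_of_dvd_coprimes
      ((hp.coprime_iff_not_dvd.2 P.not_dvd_index).pow_left k).symm (index_dvd_of_le le_sup_left)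
      (hk ▸ index_dvd_of_le le_sup_right)
  have hdecomp : ∀ y : H, ∃ s ∈ (P : Subgroup H), ∃ n ∈ N, y = s * n := by
    intro y
    have hy : y ∈ (((P : Subgroup H) ⊔ N : Subgroup H) : Set H) := by rw [hPN]; exact mem_top y
    rw [mul_normal] at hy
    obtain ⟨s, hs, n, hn, rfl⟩ := hy
    exact ⟨s, hs, n, hn, rfl⟩
  have hPK : ∀ s : (P : Subgroup H), ((s : H) : G) ∈ K → s ∈ commutator (P : Subgroup H) := by
    intro s hs
    set W := (commutator (P : Subgroup H)).map (P : Subgroup H).subtype with hW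
    have h1 : commutator H ≤ (W.map (QuotientGroup.mk' N)).comap (QuotientGroup.mk' N) := by
      rw [_root_.commutator_def, commutator_le]
      intro x _ y _
      obtain ⟨s₁, hs₁, n₁, hn₁, rfl⟩ := hdecomp x
      obtain ⟨s₂, hs₂, n₂, hn₂, rfl⟩ := hdecomp y
      have e₁ : QuotientGroup.mk' N n₁ = 1 := (QuotientGroup.eq_one_iff n₁).2 hn₁
      have e₂ : QuotientGroup.mk' N n₂ = 1 := (QuotientGroup.eq_one_iff n₂).2 hn₂
      rw [mem_comap, map_commutatorElement, map_mul, map_mul, e₁, e₂, mul_one, mul_one,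
        ← map_commutatorElement]
      exact mem_map_of_mem _ ⟨⁅(⟨s₁, hs₁⟩ : (P : Subgroup H)), ⟨s₂, hs₂⟩⁆,
        commutator_mem_commutator (mem_top _) (mem_top _), map_commutatorElement (P : Subgroup H).subtype ⟨s₁, hs₁⟩ ⟨s₂, hs₂⟩⟩
    obtain ⟨w, ⟨w', hw', rfl⟩, hweq⟩ := h1 (show (s : H) ∈ commutator H by rw [hder']; exact hs)
    have h2 : ((w' : H))⁻¹ * (s : H) ∈ N := QuotientGroup.eq.1 hweq
    obtain ⟨i, hi⟩ := P.2.exists_orderOf_eq_pow (w'⁻¹ * s) |>.elim (fun i hi => (⟨i, hi⟩ : ∃ i, orderOf (w'⁻¹ * s) = p ^ i))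
    have h3 := hNord _ h2 i (by rw [← hi, ← orderOf_coe (w'⁻¹ * s)]; rfl)
    have h4 : w' = s := Subtype.ext (inv_mul_eq_one.1 h3)
    exact h4 ▸ hw'
  -- the field
  haveI : Nontrivial (Additive Nb) :=
    ⟨⟨Additive.ofMul ⟨_, hgb⟩, 0, fun h => hgb1 (congrArg (fun w => ((Additive.toMul w : Nb) : G ⧸ K)) h)⟩⟩
  letI : CommGroup Nb := { (inferInstance : Group Nb) with mul_comm := hNcomm }
  let ρ : G →* AddMonoid.End (Additive Nb) :=
    { toFun := fun x => (MulAut.conjNormal (π x) : MulAut Nb).toMonoidHom.toAdditive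
      map_one' := by
        apply AddMonoidHom.ext
        intro v
        show Additive.ofMul ((MulAut.conjNormal (π 1) : MulAut Nb) (Additive.toMul v)) = v
        rw [map_one, map_one]
        rfl
      map_mul' := fun x y => by
        apply AddMonoidHom.ext
        intro v
        show Additive.ofMul ((MulAut.conjNormal (π (x * y)) : MulAut Nb) (Additive.toMul v)) =
          Additive.ofMul ((MulAut.conjNormal (π x) : MulAut Nb)
            ((MulAut.conjNormal (π y) : MulAut Nb) (Additive.toMul v)))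
        rw [map_mul, map_mul]
        rfl }
  have hρ : ∀ x v, ((Additive.toMul (ρ x v) : Nb) : G ⧸ K) = π x * (Additive.toMul v : Nb) * (π x)⁻¹ :=
    fun x v => MulAut.conjNormal_apply (π x) _
  have hρH : ∀ x ∈ H, ρ x = 1 := by
    intro x hx
    apply AddMonoidHom.ext
    intro v
    apply Additive.toMul.injective
    apply Subtype.ext
    refine (hρ x v).trans ?_
    show _ = ((Additive.toMul v : Nb) : G ⧸ K)
    have := congrArg Subtype.val (hNcomm ⟨π x, mem_map_of_mem π hx⟩ (Additive.toMul v))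
    rw [Subgroup.coe_mul, Subgroup.coe_mul] at this
    rw [this, mul_inv_cancel_right]
  obtain ⟨F, iF, iFF, eF, t, μ, hμ, ht⟩ := exists_field ρ
    (fun x y => by
      rw [← map_mul, ← map_mul, show x * y = ⁅x, y⁆ * (y * x) by rw [commutatorElement_def]; group,
        map_mul ρ ⁅x, y⁆, hρH _ (commutator_mem_commutator (mem_top x) (mem_top y)), one_mul])
    (fun v w hv hw => by
      obtain ⟨c, hc⟩ := isConj_iff.1 ((htrans _ (Additive.toMul v).2 fun h => hv
        (congrArg Additive.ofMul (Subtype.ext h))).symm.trans (htrans _ (Additive.toMul w).2 fun h => hw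
        (congrArg Additive.ofMul (Subtype.ext h))))
      obtain ⟨x, rfl⟩ := QuotientGroup.mk'_surjective K c
      exact ⟨x, Additive.toMul.injective (Subtype.ext ((hρ x v).trans hc))⟩)
  obtain ⟨n, hn⟩ : ∃ n, q = p ^ n :=
    IsPGroup.exists_card_eq (p := p) (G := Nb) fun y => ⟨1, Subtype.ext (by simpa using hexp y y.2)⟩
  have hcardF : Fintype.card F = p ^ n := by
    rw [← Nat.card_eq_fintype_card, ← Nat.card_congr eF.toEquiv]
    exact hn
  haveI : CharP F p := charP_of_card_eq_prime_pow hcardF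
  rw [show Nat.card (Additive Nb) = p ^ n from hn] at hμ
  -- normalise the Singer element
  set Ps := (P : Subgroup H).map H.subtype with hPs
  have hfr := Sylow.normalizer_sup_eq_top P
  have htmem : t ∈ ((Subgroup.normalizer (Ps : Set G) ⊔ H : Subgroup G) : Set G) := by
    rw [hfr]; exact mem_top t
  rw [mul_normal] at htmem
  obtain ⟨u, hu, w, hw, rfl⟩ := htmem
  have ht' : ∀ v, eF (ρ u v) = μ * eF v := by
    intro v
    rw [← ht v, map_mul, hρH w hw, mul_one]
  have hmemP : ∀ c ∈ Subgroup.normalizer (Ps : Set G), ∀ s : (P : Subgroup H),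
      c * ((s : H) : G) * c⁻¹ ∈ Ps := fun c hc s =>
    (mem_normalizer_iff.1 hc _).1 ⟨s, s.2, rfl⟩
  have hmemH : ∀ c (s : H), c * (s : G) * c⁻¹ ∈ H := fun c s =>
    (inferInstance : H.Normal).conj_mem _ s.2 c
  let act : ∀ c ∈ Subgroup.normalizer (Ps : Set G), ↥(P : Subgroup H) → ↥(P : Subgroup H) := fun c hc s =>
    ⟨⟨c * ((s : H) : G) * c⁻¹, hmemH c s⟩, by
      obtain ⟨s', hs', he'⟩ := hmemP c hc s
      rwa [show (⟨c * ((s : H) : G) * c⁻¹, hmemH c s⟩ : H) = s' from Subtype.ext he'.symm]⟩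
  let τ : MulAut (P : Subgroup H) :=
    { toFun := act u hu
      invFun := act u⁻¹ (inv_mem hu)
      left_inv := fun s => Subtype.ext (Subtype.ext (by simp [act, mul_assoc]))
      right_inv := fun s => Subtype.ext (Subtype.ext (by simp [act, mul_assoc]))
      map_mul' := fun s s' => Subtype.ext (Subtype.ext (by simp [act, mul_assoc])) }
  let eP : ↥(P : Subgroup H) → F := fun s =>
    eF (Additive.ofMul ⟨π ((s : H) : G), mem_map_of_mem π (s : H).2⟩)
  have hePmul : ∀ x y, eP (x * y) = eP x + eP y := by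
    intro x y
    simp only [eP]
    rw [← map_add, ← ofMul_mul]
    exact congrArg eF (congrArg Additive.ofMul (Subtype.ext (map_mul π _ _)))
  have hker : ∀ x, eP x = 0 ↔ x ∈ commutator (P : Subgroup H) := by
    intro x
    have h1 : eP x = 0 ↔ ((x : H) : G) ∈ K := by
      simp only [eP, map_eq_zero_iff eF eF.injective]
      exact ⟨fun h => (QuotientGroup.eq_one_iff _).1 (congrArg (fun w => ((Additive.toMul w : Nb) : G ⧸ K)) h),
        fun h => congrArg Additive.ofMul (Subtype.ext ((QuotientGroup.eq_one_iff _).2 h))⟩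
    refine ⟨fun h => hPK x (h1.1 h), fun h => h1.2 ?_⟩
    have h2 : (x : H) ∈ commutator H := by
      have h3 := mem_map_of_mem (P : Subgroup H).subtype h
      rw [_root_.commutator_def, map_commutator] at h3
      exact commutator_mono le_top le_top h3
    exact (hder h2 : (x : H) ∈ K1)
  have hsurj : Function.Surjective eP := by
    intro b
    obtain ⟨x, hx, hxe⟩ := (Additive.toMul (eF.symm b)).2
    obtain ⟨s, hs, m, hm, hsm⟩ := hdecomp ⟨x, hx⟩
    refine ⟨⟨s, hs⟩, ?_⟩
    rw [← eF.apply_symm_apply b]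
    refine congrArg eF (Additive.toMul.injective (Subtype.ext ?_))
    show π (s : G) = _
    rw [← hxe]
    have h5 : x = (s : G) * (m : G) := congrArg Subtype.val hsm
    rw [h5, map_mul, show π (m : G) = 1 from (QuotientGroup.eq_one_iff (m : G)).2 (hNK m hm),
      mul_one]
  have hτ : ∀ x, eP (τ x) = μ * eP x := by
    intro x
    rw [← ht']
    refine congrArg eF (Additive.toMul.injective (Subtype.ext ?_))
    refine Eq.trans ?_ (hρ u _).symm
    show π (u * ((x : H) : G) * u⁻¹) = _
    rw [map_mul, map_mul, map_inv]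
    rfl
  have hnotK : ∀ x, eP x ≠ 0 → ((x : H) : G) ∉ K := fun x hx h => hx ((hker x).2 (hPK x h))
  have hCP : ∀ x, eP x ≠ 0 → Nat.card (centralizer ({x} : Set (P : Subgroup H))) ≤ p ^ n := by
    intro x hx
    rw [← hn]
    refine le_trans ?_ (hCH (x : H) (hnotK x hx))
    refine Nat.card_le_card_of_injective
      (fun y : centralizer ({x} : Set (P : Subgroup H)) => (⟨((y : (P : Subgroup H)) : H),
        mem_centralizer_singleton_iff.2
          (congrArg Subtype.val (mem_centralizer_singleton_iff.1 y.2))⟩ : centralizer ({(x : H)} : Set H)))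
      fun y z h => ?_
    exact Subtype.ext (Subtype.ext (congrArg (fun w : centralizer ({(x : H)} : Set H) => (w : H)) h))
  obtain ⟨x, hx⟩ := hsurj 1
  have hx0 : eP x ≠ 0 := by rw [hx]; exact one_ne_zero
  have hxp : x ^ p = 1 :=
    pow_eq_one_of_small_centralizer P.2 hpodd hcardF hμ τ eP hePmul hsurj hker hτ hCP x hx0
  by_cases hsub : Subsingleton N
  · infer_instance
  set φ : N ≃* N := (MulAut.conjNormal (x : H) : MulAut N) with hφ
  have hfix : ∀ y : N, φ y = y → y = 1 := by
    intro y hy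
    apply Subtype.ext
    have hc : (x : H) * (y : H) = (y : H) * (x : H) := mul_inv_eq_iff_eq_mul.1
      ((MulAut.conjNormal_apply (x : H) y).symm.trans (congrArg Subtype.val hy))
    refine hNord _ y.2 n ?_
    have hmem : ((y : H) : G) ∈ centralizer ({((x : H) : G)} : Set G) :=
      mem_centralizer_singleton_iff.2 (congrArg Subtype.val hc.symm)
    have h1 := Subgroup.orderOf_dvd_natCard _ hmem
    rwa [hCx _ (x : H).2 (hnotK x hx0), hn, orderOf_coe] at h1
  haveI : Group.IsNilpotent N := S0033.result φ hfix p hp (orderOf_eq_prime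
    (by rw [hφ, ← map_pow, ← Subgroup.coe_pow, hxp, Subgroup.coe_one, map_one])
    (fun he' => hsub ⟨fun a b => by
      rw [hfix a (by rw [he']; rfl), hfix b (by rw [he']; rfl)]⟩))
  infer_instance

end Cfsg.Agent.SeenOnce
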