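import Cfsg.Agent.Char.Orthogonality
import Cfsg.Agent.Char.Kernel
import Cfsg.Agent.Char.Linear
import Cfsg.Agent.Char.Integrality
import Cfsg.Agent.Char.Virtual
import Cfsg.Prelude.Def_DegreeGraph
import Cfsg.Agent.S0174

/-!
# An element seen by a single non-linear character
-/

set_option autoImplicit false
set_option linter.style.haveILetI false

namespace Cfsg.Agent.SeenOnce

open Finset
open scoped Classical ComplexConjugate

universe u

variable {G : Type u} [Group G]

/-- A character vanishing at a `p`-element has degree divisible by `p`. -/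
theorem dvd_degree_of_vanish [Finite G] {p : ℕ} [Fact p.Prime] {χ : G → ℂ} (h : IsCharacter G χ)
    {g : G} {k : ℕ} (hg : orderOf g = p ^ k) (h0 : χ g = 0) {d : ℕ} (hd : χ 1 = d) : p ∣ d := by
  obtain ⟨n, ρ, rfl⟩ := h
  obtain ⟨ε, hε, hpow⟩ := Char.exists_character_eq_sum_roots ρ g
  have hint : ∀ i, IsIntegral ℤ (ε i) := fun i =>
    IsIntegral.of_pow (orderOf_pos g) ((hε i).symm ▸ isIntegral_one)
  have key : ∀ s : Finset (Fin (Module.finrank ℂ (Fin n → ℂ))), ∃ r : ℂ, IsIntegral ℤ r ∧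
      (∑ i ∈ s, ε i) ^ p ^ k = ∑ i ∈ s, ε i ^ p ^ k + (p : ℂ) * r := by
    intro s
    induction s using Finset.induction_on with
    | empty => exact ⟨0, isIntegral_zero, by simp [zero_pow (pow_ne_zero k (Fact.out : p.Prime).ne_zero)]⟩
    | insert i s his ih =>
      obtain ⟨r, hr, hr'⟩ := ih
      obtain ⟨c, hc⟩ := exists_add_pow_prime_pow_eq (Fact.out : p.Prime)
        (⟨ε i, hint i⟩ : integralClosure ℤ ℂ) ⟨∑ j ∈ s, ε j, IsIntegral.sum _ fun j _ => hint j⟩ k
      have hc' := congrArg Subtype.val hc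
      push_cast at hc'
      refine ⟨ε i * (∑ j ∈ s, ε j) * c + r, ?_, ?_⟩
      · exact (((hint i).mul (IsIntegral.sum _ fun j _ => hint j)).mul c.2).add hr
      · rw [sum_insert his, sum_insert his, hc', hr']
        ring
  obtain ⟨r, hr, hr'⟩ := key univ
  have h1 : ρ.character g = ∑ i, ε i := by simpa using hpow 1
  rw [← h1, h0, zero_pow (pow_ne_zero k (Fact.out : p.Prime).ne_zero)] at hr'
  have h2 : (∑ i, ε i ^ p ^ k) = (d : ℂ) := by
    rw [← hg, ← hpow, pow_orderOf_eq_one, hd]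
  rw [h2] at hr'
  refine Char.dvd_of_isIntegral_div (Fact.out : p.Prime).ne_zero ?_
  have h3 : (d : ℂ) / p = -r := by
    rw [div_eq_iff (Nat.cast_ne_zero.2 (Fact.out : p.Prime).ne_zero)]
    linear_combination -hr'
  rw [h3]
  exact hr.neg

theorem charDegree_eq {χ : G → ℂ} {d : ℕ} (hd : χ 1 = d) : Cfsg.charDegree χ = d := by
  simp [Cfsg.charDegree, hd]

theorem charDegree_eq_one_iff {χ : G → ℂ} (h : IsCharacter G χ) :
    Cfsg.charDegree χ = 1 ↔ χ 1 = 1 := by
  obtain ⟨d, hd⟩ := Char.isCharacter_one_nat h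
  rw [charDegree_eq hd, hd, Nat.cast_eq_one]

theorem sum_linear_eq [Fintype G] (f : IrrCharacter G → ℂ) :
    ∑ χ ∈ univ.filter (fun χ : IrrCharacter G => (χ : G → ℂ) 1 = 1), f χ =
      ∑ χ : {χ : IrrCharacter G // (χ : G → ℂ) 1 = 1}, f χ :=
  (Finset.sum_subtype _ (by simp) f)

/-- Linear characters sum to zero outside the derived subgroup. -/
theorem sum_linear_eq_zero [Fintype G] {g : G} (hg : g ∉ commutator G) :
    ∑ χ ∈ univ.filter (fun χ : IrrCharacter G => (χ : G → ℂ) 1 = 1), (χ : G → ℂ) g = 0 := by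
  haveI : Finite (G →* ℂˣ) := Char.monoidHom_complex_finite
  letI := Fintype.ofFinite (G →* ℂˣ)
  rw [sum_linear_eq, ← Fintype.sum_equiv Char.monoidHomEquivLinear (fun f => (f g : ℂ)) _ fun f => rfl]
  have hne : (Abelianization.of g) ≠ 1 := fun h => hg ((QuotientGroup.eq_one_iff g).1 h)
  obtain ⟨φ, hφ⟩ := CommGroup.exists_apply_ne_one_of_hasEnoughRootsOfUnity (Abelianization G) ℂ hne
  set f₀ := φ.comp Abelianization.of
  have h1 : ∑ f : G →* ℂˣ, (f g : ℂ) = (f₀ g : ℂ) * ∑ f : G →* ℂˣ, (f g : ℂ) := by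
    conv_lhs => rw [← Equiv.sum_comp (Equiv.mulLeft f₀)]
    rw [mul_sum]
    simp
  have h2 : ((f₀ g : ℂ)) ≠ 1 := fun h => hφ (Units.ext h)
  by_contra h
  exact h2 ((mul_eq_right₀ h).1 h1.symm)

/-- Facts carried by an element seen by exactly one non-linear character. -/
theorem column_facts [Finite G] (g : G) (hg1 : g ≠ 1) (χ : IrrCharacter G)
    (hχ1 : Cfsg.charDegree (χ : G → ℂ) ≠ 1) (hχg : (χ : G → ℂ) g ≠ 0)
    (hother : ∀ ψ : IrrCharacter G, Cfsg.charDegree (ψ : G → ℂ) ≠ 1 → ψ ≠ χ → (ψ : G → ℂ) g = 0) :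
    ∃ (K : Subgroup G) (d : ℕ), K.Normal ∧ K ≤ commutator G ∧ g ∈ commutator G ∧ g ∉ K ∧
      (∀ x, x ∈ K ↔ (χ : G → ℂ) x = (χ : G → ℂ) 1) ∧ (χ : G → ℂ) 1 = d ∧
      (χ : G → ℂ) g = -(((commutator G).index : ℂ) / (χ : G → ℂ) 1) ∧
      (∀ x, x ∉ commutator G → (χ : G → ℂ) x = 0) ∧
      (∀ x, x ∈ commutator G ↔ x ∈ K ∨ IsConj g x) ∧
      Nat.card (Subgroup.centralizer ({g} : Set G)) * d ^ 2 =
        (commutator G).index * d ^ 2 + (commutator G).index ^ 2 := by
  letI := Fintype.ofFinite G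
  obtain ⟨d, hdpos, hd⟩ := Char.irr_one_pos χ.2
  have hd0 : (d : ℂ) ≠ 0 := Nat.cast_ne_zero.2 hdpos.ne'
  set a := (commutator G).index with ha
  have hχlin : ¬ (χ : G → ℂ) 1 = 1 := fun h =>
    hχ1 ((charDegree_eq_one_iff (Char.isCharacter_of_irr χ.2)).2 h)
  have split : ∀ h : G, ∑ ψ ∈ univ.filter (fun ψ : IrrCharacter G => (ψ : G → ℂ) 1 = 1),
        (ψ : G → ℂ) g * conj ((ψ : G → ℂ) h) + (χ : G → ℂ) g * conj ((χ : G → ℂ) h) =
      if IsConj g h then (Nat.card (Subgroup.centralizer ({g} : Set G)) : ℂ) else 0 := by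
    intro h
    trans ∑ ψ : IrrCharacter G, (ψ : G → ℂ) g * conj ((ψ : G → ℂ) h)
    swap
    · convert Char.sum_irr_mul_conj g h
    rw [← sum_filter_add_sum_filter_not univ (fun ψ : IrrCharacter G => (ψ : G → ℂ) 1 = 1)
        (fun ψ => (ψ : G → ℂ) g * conj ((ψ : G → ℂ) h))]
    congr 1
    rw [sum_eq_single χ]
    · intro ψ hψ hne
      rw [hother ψ (fun h1 => (mem_filter.1 hψ).2
        ((charDegree_eq_one_iff (Char.isCharacter_of_irr ψ.2)).1 h1)) hne, zero_mul]
    · exact fun h' => absurd (mem_filter.2 ⟨mem_univ χ, hχlin⟩) h'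
  have hg1' : ¬ IsConj g 1 := fun h => hg1 (isConj_one_left.1 h)
  have hgmem : g ∈ commutator G := by
    by_contra hg
    have h1 := split 1
    rw [if_neg hg1', hd, map_natCast] at h1
    rw [sum_congr rfl fun ψ hψ => by rw [(mem_filter.1 hψ).2, map_one, mul_one],
      sum_linear_eq_zero hg, zero_add] at h1
    exact mul_ne_zero hχg hd0 h1
  have hlin : ∀ ψ : IrrCharacter G, (ψ : G → ℂ) 1 = 1 → (ψ : G → ℂ) g = 1 := fun ψ h =>
    Char.linear_eq_one_of_mem_commutator (Char.isCharacter_of_irr ψ.2) h hgmem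
  have hcardlin : (univ.filter fun ψ : IrrCharacter G => (ψ : G → ℂ) 1 = 1).card = a := by
    rw [ha, ← Char.card_linear_irr, Nat.card_eq_fintype_card, Fintype.card_subtype]
  have hin : ∀ h ∈ commutator G, ∑ ψ ∈ univ.filter (fun ψ : IrrCharacter G => (ψ : G → ℂ) 1 = 1),
      (ψ : G → ℂ) g * conj ((ψ : G → ℂ) h) = a := by
    intro h hh
    rw [sum_congr rfl fun ψ hψ => by
      rw [hlin ψ (mem_filter.1 hψ).2,
        Char.linear_eq_one_of_mem_commutator (Char.isCharacter_of_irr ψ.2) (mem_filter.1 hψ).2 hh,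
        map_one, mul_one], sum_const, hcardlin, nsmul_one]
  have hval : (χ : G → ℂ) g = -((a : ℂ) / (χ : G → ℂ) 1) := by
    have h1 := split 1
    rw [if_neg hg1', hin 1 (one_mem _), hd, map_natCast] at h1
    rw [hd]
    field_simp
    linear_combination h1
  have hout : ∀ x, x ∉ commutator G → (χ : G → ℂ) x = 0 := by
    intro x hx
    have hnc : ¬ IsConj g x := by
      intro hc
      obtain ⟨c, rfl⟩ := isConj_iff.1 hc
      exact hx ((inferInstance : (commutator G).Normal).conj_mem g hgmem c)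
    have h1 := split x
    rw [if_neg hnc] at h1
    rw [sum_congr rfl fun ψ hψ => by rw [hlin ψ (mem_filter.1 hψ).2, one_mul], ← map_sum,
      sum_linear_eq_zero hx, map_zero, zero_add, mul_eq_zero] at h1
    simpa using h1.resolve_left hχg
  obtain ⟨K, hKn, hK⟩ := Char.isCharacter_exists_kernel (Char.isCharacter_of_irr χ.2)
  have hKle : K ≤ commutator G := by
    intro x hx
    by_contra hc
    exact hd0 (hd ▸ ((hK x).1 hx).symm.trans (hout x hc))
  have haz : (a : ℂ) ≠ 0 := Nat.cast_ne_zero.2 Subgroup.index_ne_zero_of_finite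
  have hgK : g ∉ K := by
    intro hx
    have h1 := (hK g).1 hx
    rw [hval, hd] at h1
    field_simp at h1
    have h2 : ((a + d * d : ℕ) : ℂ) = 0 := by
      push_cast
      linear_combination -h1
    have := Nat.cast_eq_zero.1 h2
    exact haz (Nat.cast_eq_zero.2 (by omega))
  refine ⟨K, d, hKn, hKle, hgmem, hgK, hK, hd, hval, hout, fun x => ?_, ?_⟩
  · refine ⟨fun hx => ?_, ?_⟩
    · rw [or_iff_not_imp_right]
      intro hnc
      have h1 := split x
      rw [if_neg hnc, hin x hx, hval, hd] at h1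
      field_simp at h1
      have h2 : conj ((χ : G → ℂ) x) = d := mul_left_cancel₀ haz (by linear_combination -h1)
      rw [hK, hd, ← Complex.conj_conj ((χ : G → ℂ) x), h2, map_natCast]
    · rintro (h | h)
      · exact hKle h
      · obtain ⟨c, rfl⟩ := isConj_iff.1 h
        exact (inferInstance : (commutator G).Normal).conj_mem g hgmem c
  · have h1 := split g
    rw [if_pos (IsConj.refl g), hin g hgmem, hval, hd, map_neg, map_div₀, map_natCast,
      map_natCast] at h1
    field_simp at h1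
    have h2 : ((Nat.card (Subgroup.centralizer ({g} : Set G)) * d ^ 2 : ℕ) : ℂ) =
        ((a * d ^ 2 + a ^ 2 : ℕ) : ℂ) := by
      push_cast
      linear_combination -h1
    exact Nat.cast_injective h2

/-- No other non-linear character is trivial on the kernel. -/
theorem unique_over_kernel [Finite G] (g : G) (χ : IrrCharacter G) (K : Subgroup G)
    (hKle : K ≤ commutator G) (hgmem : g ∈ commutator G)
    (hG' : ∀ x, x ∈ commutator G ↔ x ∈ K ∨ IsConj g x)
    (hother : ∀ ψ : IrrCharacter G, Cfsg.charDegree (ψ : G → ℂ) ≠ 1 → ψ ≠ χ → (ψ : G → ℂ) g = 0)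
    (ψ : IrrCharacter G) (hψ : Cfsg.charDegree (ψ : G → ℂ) ≠ 1)
    (hker : ∀ x ∈ K, (ψ : G → ℂ) x = (ψ : G → ℂ) 1) : ψ = χ := by
  letI := Fintype.ofFinite G
  by_contra hne
  have hg0 := hother ψ hψ hne
  set N := commutator G
  have hsum : Cfsg.classInner (fun n : N => (ψ : G → ℂ) n) (fun _ => 1) ≠ 0 := by
    rw [Cfsg.classInner]
    simp only [map_one, mul_one]
    refine mul_ne_zero (inv_ne_zero (Nat.cast_ne_zero.2 Nat.card_pos.ne')) ?_
    rw [← sum_filter_add_sum_filter_not univ (fun n : N => (n : G) ∈ K) (fun n => (ψ : G → ℂ) n),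
      sum_congr rfl fun n hn => hker _ (mem_filter.1 hn).2,
      sum_eq_zero (s := univ.filter fun n : N => ¬ (n : G) ∈ K) fun n hn => ?_, add_zero, sum_const,
      nsmul_eq_mul]
    · refine mul_ne_zero (Nat.cast_ne_zero.2 (card_pos.2 ⟨1, ?_⟩).ne') (Char.irr_one_ne_zero ψ.2)
      simp
    · rw [← Char.isClassFunction_eq_of_isConj (Char.irr_isClassFunction ψ.2)
        (((hG' n).1 n.2).resolve_left (mem_filter.1 hn).2), hg0]
  have h1irr : IsIrrCharacter N (fun _ => (1 : ℂ)) := Char.isIrrCharacter_const_one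
  have hcl := S0174.result N inferInstance (ψ : G → ℂ) ψ.2 (fun _ => 1) h1irr hsum
  set c := Cfsg.classInner (fun n : N => (ψ : G → ℂ) n) (fun _ => 1)
  have hset : {ψ' : N → ℂ | ∃ x : G, ψ' = fun _ : N => (1 : ℂ)} = {fun _ : N => (1 : ℂ)} := by
    ext f
    exact ⟨fun ⟨_, h⟩ => h, fun h => ⟨1, h⟩⟩
  rw [hset, finsum_mem_singleton] at hcl
  have e1 : (ψ : G → ℂ) g = c := by simpa using congrFun hcl ⟨g, hgmem⟩
  have e2 : (ψ : G → ℂ) 1 = c := by simpa using congrFun hcl 1
  exact Char.irr_one_ne_zero ψ.2 (e2.trans (e1.symm.trans hg0))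

/-- If linear characters exhaust a small centraliser, all others vanish. -/
theorem derived_and_vanish [Finite G] (K : Subgroup G) (hK : commutator G ≤ K) (g : G)
    (hC : Nat.card (Subgroup.centralizer ({g} : Set G)) ≤ K.index) :
    commutator G = K ∧ ∀ η : IrrCharacter G, (η : G → ℂ) 1 ≠ 1 → (η : G → ℂ) g = 0 := by
  letI := Fintype.ofFinite G
  have h0 := Char.sum_irr_mul_conj g g
  rw [if_pos (IsConj.refl g)] at h0
  simp only [Complex.mul_conj] at h0
  rw [← Complex.ofReal_sum, ← Complex.ofReal_natCast, Complex.ofReal_inj,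
    ← sum_filter_add_sum_filter_not univ (fun η : IrrCharacter G => (η : G → ℂ) 1 = 1)] at h0
  have hlin : ∑ η ∈ univ.filter (fun η : IrrCharacter G => (η : G → ℂ) 1 = 1),
      Complex.normSq ((η : G → ℂ) g) = (commutator G).index := by
    rw [sum_congr rfl fun η hη => ?_, sum_const, nsmul_one]
    · rw [← Char.card_linear_irr, Nat.card_eq_fintype_card, Fintype.card_subtype]
    · obtain ⟨f, hf⟩ := Char.exists_monoidHom_of_degree_one (Char.isCharacter_of_irr η.2)
        (mem_filter.1 hη).2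
      rw [hf]
      have h1 : ‖(f g : ℂ)‖ = 1 := Char.norm_eq_one_of_pow_orderOf_eq_one g (by
        rw [← Units.val_pow_eq_pow_val, ← map_pow, pow_orderOf_eq_one, map_one, Units.val_one])
      rw [Complex.normSq_eq_norm_sq, h1, one_pow]
  rw [hlin] at h0
  set rest := ∑ η ∈ univ.filter (fun η : IrrCharacter G => ¬ (η : G → ℂ) 1 = 1),
      Complex.normSq ((η : G → ℂ) g) with hrest
  have hnn : 0 ≤ rest := sum_nonneg fun η _ => Complex.normSq_nonneg _
  have hidx := Subgroup.index_dvd_of_le hK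
  have hidx' := Nat.le_of_dvd (Nat.pos_of_ne_zero Subgroup.index_ne_zero_of_finite) hidx
  have hCR : (Nat.card (Subgroup.centralizer ({g} : Set G)) : ℝ) ≤ (commutator G).index :=
    Nat.cast_le.2 (hC.trans hidx')
  have hKR : (Nat.card (Subgroup.centralizer ({g} : Set G)) : ℝ) ≤ K.index := Nat.cast_le.2 hC
  refine ⟨?_, fun η hη => ?_⟩
  · have h1 : (commutator G).index ≤ K.index := by
      have : ((commutator G).index : ℝ) ≤ (K.index : ℝ) := by linarith
      exact_mod_cast this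
    exact Subgroup.eq_of_le_of_card_ge hK (le_of_eq (Nat.eq_of_mul_eq_mul_right
      (Nat.pos_of_ne_zero (Subgroup.index_ne_zero_of_finite (H := K)))
      (by rw [Subgroup.card_mul_index, ← (commutator G).card_mul_index, le_antisymm h1 hidx'])))
  · have h1 : rest = 0 := by linarith
    rw [hrest, sum_eq_zero_iff_of_nonneg fun η _ => Complex.normSq_nonneg _] at h1
    exact Complex.normSq_eq_zero.1 (h1 η (mem_filter.2 ⟨mem_univ η, hη⟩))

end Cfsg.Agent.SeenOnce
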